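import Groth.Prelude.Def_Canon
import Groth.Agent.Crv77.HH
import Groth.Agent.SerreD94.Duality
import Groth.Agent.SiteMod.FreeCompact
import Groth.Agent.TopCoh49.ColimCoh
import Groth.Agent.Mod48.Exact
import Groth.Agent.Coh69.FibreDim
import Groth.Agent.Coh69.RpushSections
import Groth.Agent.QC70.Colim
import Groth.Agent.QCFilt57.FPGen
import Groth.Agent.ValVan29.Vanish
import Groth.Agent.RB70.SerreVanish
import Groth.Agent.Amp73.CounitIff
import Groth.Agent.Amp73.QA

/-! Duality in the top degree: it suffices to test on a family of generators. -/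

set_option autoImplicit false
set_option linter.style.haveILetI false
set_option backward.isDefEq.respectTransparency.types false
set_option maxHeartbeats 1000000
set_option synthInstance.maxHeartbeats 200000

universe u

open CategoryTheory CategoryTheory.Limits AlgebraicGeometry Opposite TopologicalSpace

noncomputable section

open scoped Classical

namespace Groth.Agent.CAlg8.Duality

open Groth.Agent

variable {A : Type u} [CommRing A] {X : Scheme.{u}} [X.Over (Spec (CommRingCat.of A))]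

theorem dualityMap_apply {r : ℕ} {ω : X.Modules} (tr : Coh.HH X ω r →ₗ[A] A) {F : X.Modules} (φ : F ⟶ ω)
    (x : Coh.HH X F r) : Canon.dualityMap A X r ω tr F φ x = tr (Crv77.hmap A φ r x) := rfl

/-- A class of a sum comes from finitely many summands. -/
theorem eq_sum_coprod [CompactSpace X] [QuasiSeparatedSpace X] {ι : Type u} (M : ι → X.Modules) (r : ℕ)
    (x : Coh.HH X (∐ M) r) :
    ∃ (S : Finset ι) (z : ∀ j, Coh.HH X (M j) r), x = ∑ j ∈ S, Crv77.hmap A (Sigma.ι M j) r (z j) := by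
  classical
  let G : CohTop.Ab X.toTopCat ⥤ AddCommGrpCat.{u} :=
    (Sheaf.cohomologyPresheafFunctor (Opens.grothendieckTopology X) r).flip.obj (op (⊤ : X.Opens))
  have hmap : ∀ {P Q : CohTop.Ab X.toTopCat} (g : P ⟶ Q) (x : TopCoh49.E P r (⊤ : X.Opens)),
      G.map g x = x.comp (Abelian.Ext.mk₀ g) (add_zero r) :=
    fun g x => TopCoh49.flip_extFunctor_map_app (TopCoh49.freeFun X.toTopCat) r g ⊤ x
  haveI : G.Additive := ⟨fun {P Q f g} => by
    ext x
    refine (hmap (f + g) x).trans ?_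
    rw [Abelian.Ext.mk₀_add, Abelian.Ext.comp_add]
    exact (congrArg₂ (· + ·) (hmap f x) (hmap g x)).symm⟩
  let T : X.Modules ⥤ CohTop.Ab X.toTopCat := SheafOfModules.toSheaf.{u} X.ringCatSheaf
  haveI : T.Additive := Crv77.toAbF_additive (X := X)
  have hG : ∀ (K : Type u) [SmallCategory K] [IsFiltered K], PreservesColimitsOfShape K (T ⋙ G) :=
    fun K _ _ =>
      haveI : PreservesColimitsOfShape K G := TopCoh49.colim_HU isCompact_univ r
      haveI : PreservesColimitsOfShape K T := Mod48.toSheaf_preservesColimitsOfShape (O := X.sheaf) K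
      inferInstance
  have hcomp : ∀ {P Q : X.Modules} (φ : P ⟶ Q) (y : Coh.HH X P r),
      (T ⋙ G).map φ (Coh69.hhEquiv P r y) = Coh69.hhEquiv Q r (Crv77.hmap A φ r y) := fun φ y =>
    (hmap (T.map φ) _).trans (Coh69.hTerminalEquiv_map _ (T.map φ) r y).symm
  obtain ⟨S, hS⟩ := SiteMod.exists_sum_of_filtered (T ⋙ G) hG M (Coh69.hhEquiv (∐ M) r x)
  refine ⟨S, fun j => Crv77.hmap A (CohDer42.CompactBdd.pr M j) r x, (Coh69.hhEquiv (∐ M) r).injective ?_⟩
  rw [map_sum, hS]
  exact Finset.sum_congr rfl fun j _ => by rw [hcomp, hcomp]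

/-- Vanishing of cohomology above the dimension of the fibres. -/
theorem subsingleton_of_isCoh [IsNoetherianRing A] [IsProper (X ↘ Spec (CommRingCat.of A))] {r : ℕ}
    (hfib : ∀ y : ↥(Spec (CommRingCat.of A)),
      topologicalKrullDim ↥((X ↘ Spec (CommRingCat.of A)).fiber y) ≤ (r : WithBot ℕ∞))
    (F : X.Modules) (hF : Coh.IsCoh F) {p : ℕ} (hp : r < p) : Subsingleton (Coh.HH X F p) := by
  haveI := hF.1
  let f := X ↘ Spec (CommRingCat.of A)
  obtain ⟨e⟩ := Coh69.nonempty_hh_rpushAb_sections f F p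
  suffices hs : ∀ s : ((Coh.RpushAb f p).obj (Coh.toAb F)).obj.obj (op ⊤), s = 0 from
    e.toEquiv.subsingleton_congr.2 (subsingleton_of_forall_eq 0 hs)
  intro s
  refine TopCat.Presheaf.section_ext ((Coh.RpushAb f p).obj (Coh.toAb F)) ⊤ s 0 fun y hy => ?_
  haveI := AddCommGrpCat.subsingleton_of_isZero (Coh69.FibreDim.isZero_stalk f y r (hfib y) F hF p hp)
  exact Subsingleton.elim _ _

theorem subsingleton_of_isQCoh [IsNoetherianRing A] [IsProper (X ↘ Spec (CommRingCat.of A))] {r : ℕ}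
    (hfib : ∀ y : ↥(Spec (CommRingCat.of A)),
      topologicalKrullDim ↥((X ↘ Spec (CommRingCat.of A)).fiber y) ≤ (r : WithBot ℕ∞))
    (F : X.Modules) (hF : Coh.IsQCoh F) {p : ℕ} (hp : r < p) : Subsingleton (Coh.HH X F p) := by
  haveI : CompactSpace X := QuasiCompact.compactSpace_of_compactSpace (X ↘ Spec (CommRingCat.of A))
  haveI : QuasiSeparatedSpace X := quasiSeparatedSpace_of_quasiSeparated (X ↘ Spec (CommRingCat.of A))
  haveI : IsLocallyNoetherian X := LocallyOfFiniteType.isLocallyNoetherian (X ↘ Spec (CommRingCat.of A))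
  obtain ⟨I, _, _, D, c, hc, hfp, rfl⟩ := QCFilt57.exists_diagram F hF
  let G : CohTop.Ab X.toTopCat ⥤ AddCommGrpCat.{u} :=
    (Sheaf.cohomologyPresheafFunctor (Opens.grothendieckTopology X) p).flip.obj (op (⊤ : X.Opens))
  let T : X.Modules ⥤ CohTop.Ab X.toTopCat := SheafOfModules.toSheaf.{u} X.ringCatSheaf
  haveI : PreservesColimitsOfShape I G := TopCoh49.colim_HU isCompact_univ p
  haveI : PreservesColimitsOfShape I T := Mod48.toSheaf_preservesColimitsOfShape (O := X.sheaf) I
  have h := isColimitOfPreserves (T ⋙ G) hc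
  haveI : Subsingleton ((T ⋙ G).obj c.pt) := subsingleton_of_forall_eq 0 fun x => by
    obtain ⟨i, y, rfl⟩ := Concrete.isColimit_exists_rep _ h x
    haveI : Subsingleton ((T ⋙ G).obj (D.obj i)) :=
      (Coh69.hhEquiv (D.obj i) p).toEquiv.subsingleton_congr.1
        (subsingleton_of_isCoh hfib _ (ValVan29.isCoh_of_isFP (hfp i)) hp)
    obtain rfl : y = 0 := @Subsingleton.elim _ this y 0
    exact map_zero _
  haveI : Subsingleton (Coh69.HE (Coh.toAb c.pt) p (⊤ : X.Opens)) := ‹Subsingleton ((T ⋙ G).obj c.pt)›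
  exact (Coh69.hhEquiv c.pt p).toEquiv.subsingleton

/-- The duality criterion on a family of generators. -/
theorem isRDualOver_of_generators [CompactSpace X] [QuasiSeparatedSpace X] {r : ℕ}
    (hvan : ∀ F : X.Modules, Coh.IsQCoh F → Subsingleton (Coh.HH X F (r + 1)))
    {ω : X.Modules} (hω : Coh.IsQCoh ω) (tr : Coh.HH X ω r →ₗ[A] A) {κ : Type u} (M : κ → X.Modules)
    (hM : ∀ j, Coh.IsQCoh (M j)) (h : ∀ j, Function.Bijective (Canon.dualityMap A X r ω tr (M j)))
    (hgen : ∀ F : X.Modules, Coh.IsQCoh F → ∃ (ι : Type u) (a : ι → κ) (p : (∐ fun i => M (a i)) ⟶ F), Epi p) :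
    Canon.IsRDualOver A X r ω tr := by
  have inj : ∀ F : X.Modules, Coh.IsQCoh F → ∀ φ : F ⟶ ω,
      (∀ x, tr (Crv77.hmap A φ r x) = 0) → φ = 0 := by
    intro F hF φ hφ
    obtain ⟨ι, a, p, hp⟩ := hgen F hF
    rw [← cancel_epi p, comp_zero]
    refine Sigma.hom_ext _ _ fun i => ?_
    rw [comp_zero]
    refine (h (a i)).1 (LinearMap.ext fun x => ?_)
    rw [dualityMap_apply, dualityMap_apply, SerreD94.hmap_zero, map_zero, ← Crv77.hmap_comp, ← Crv77.hmap_comp]
    exact hφ _
  refine ⟨hω, fun F hF => ⟨fun φ ψ e => sub_eq_zero.1 (inj F hF _ fun x => ?_), fun θ => ?_⟩⟩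
  · rw [SerreD94.hmap_sub, map_sub, sub_eq_zero]
    exact LinearMap.congr_fun e x
  obtain ⟨ι, a, p, hp⟩ := hgen F hF
  let N : ι → X.Modules := fun i => M (a i)
  choose φl hφl using fun i => (h (a i)).2 (θ ∘ₗ Crv77.hmap A (Sigma.ι N i ≫ p) r)
  let Φ : ∐ N ⟶ ω := Sigma.desc φl
  have hΦ : ∀ y, tr (Crv77.hmap A Φ r y) = θ (Crv77.hmap A p r y) := fun y => by
    obtain ⟨S, z, rfl⟩ := eq_sum_coprod (A := A) N r y
    simp only [map_sum, Crv77.hmap_comp]
    refine Finset.sum_congr rfl fun i _ => ?_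
    rw [Sigma.ι_desc]
    exact LinearMap.congr_fun (hφl i) (z i)
  haveI : (∐ N).IsQuasicoherent := QC70.isQuasicoherent_coproduct N fun i => hM (a i)
  haveI : F.IsQuasicoherent := hF
  have hK : Coh.IsQCoh (kernel p) := QC70.isQuasicoherent_kernel p
  have h0 : kernel.ι p ≫ Φ = 0 := inj _ hK _ fun y => by
    rw [← Crv77.hmap_comp, hΦ, Crv77.hmap_comp, kernel.condition, SerreD94.hmap_zero, map_zero]
  let φ : F ⟶ ω := Abelian.epiDesc p Φ h0
  have hφp : p ≫ φ = Φ := Abelian.comp_epiDesc p Φ h0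
  let S := ShortComplex.mk (kernel.ι p) p (kernel.condition p)
  have hS : S.ShortExact :=
    { exact := ShortComplex.exact_of_f_is_kernel _ (kernelIsKernel p)
      mono_f := (inferInstance : Mono (kernel.ι p))
      epi_g := hp }
  haveI : Subsingleton (Coh.HH X S.X₁ (r + 1)) := hvan _ hK
  refine ⟨φ, LinearMap.ext fun x => ?_⟩
  obtain ⟨y, rfl⟩ := (Crv77.exact_g_δ A hS r x).1 (Subsingleton.elim _ _)
  rw [dualityMap_apply, Crv77.hmap_comp]
  exact (congrArg (fun ψ => tr (Crv77.hmap A ψ r y)) hφp).trans (hΦ y)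

omit [X.Over (Spec (CommRingCat.of A))] in
/-- The twists generate quasi-coherent modules on a closed subscheme of projective space. -/
theorem exists_epi_twists [IsNoetherianRing A] {n : ℕ} (ι : X ⟶ CohB1.ProjSpace n A) [IsClosedImmersion ι]
    (e₀ : ℤ) (F : X.Modules) (hF : Coh.IsQCoh F) :
    ∃ (T : Type u) (a : T → ULift.{u} {m : ℤ // m ≤ e₀})
      (p : (∐ fun i => (Scheme.Modules.pullback ι).obj (Twist.twistProjSpace n A (a i).down.1)) ⟶ F), Epi p := by
  haveI := Serre71.isProper_projSpace n A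
  haveI : IsLocallyNoetherian (CohB1.ProjSpace n A) :=
    LocallyOfFiniteType.isLocallyNoetherian (CohB1.ProjSpace.toSpec n A)
  haveI : CompactSpace (CohB1.ProjSpace n A) :=
    QuasiCompact.compactSpace_of_compactSpace (CohB1.ProjSpace.toSpec n A)
  haveI : QuasiSeparatedSpace (CohB1.ProjSpace n A) :=
    quasiSeparatedSpace_of_quasiSeparated (CohB1.ProjSpace.toSpec n A)
  haveI : CompactSpace X := QuasiCompact.compactSpace_of_compactSpace ι
  haveI : QuasiSeparatedSpace X := quasiSeparatedSpace_of_quasiSeparated ι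
  haveI : IsLocallyNoetherian X := LocallyOfFiniteType.isLocallyNoetherian ι
  let L : ULift.{u} {m : ℤ // m ≤ e₀} → X.Modules := fun m =>
    (Scheme.Modules.pullback ι).obj (Twist.twistProjSpace n A m.down.1)
  let T := Σ m : ULift.{u} {m : ℤ // m ≤ e₀}, (L m ⟶ F)
  refine ⟨T, fun t => t.1, Sigma.desc fun t => t.2, ⟨fun {P} g g' e => ?_⟩⟩
  have key : ∀ (m : ULift.{u} {m : ℤ // m ≤ e₀}) (v : L m ⟶ F), v ≫ g = v ≫ g' := fun m v =>
    ((Limits.Sigma.ι_desc_assoc (fun t : T => t.2) ⟨m, v⟩ g).symm.trans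
      (congrArg (fun k => Sigma.ι (fun t : T => L t.1) ⟨m, v⟩ ≫ k) e)).trans
      (Limits.Sigma.ι_desc_assoc (fun t : T => t.2) ⟨m, v⟩ g')
  obtain ⟨I, _, _, D, c, hc, hfp, rfl⟩ := QCFilt57.exists_diagram F hF
  refine hc.hom_ext fun i => ?_
  have hD : Coh.IsCoh (D.obj i) := ValVan29.isCoh_of_isFP (hfp i)
  haveI := hD.1
  obtain ⟨a, ha⟩ := Amp73.exists_epi_negative_twists (𝒜 := CohB1.polyGrading n A) _ (fun f hf => by
    obtain ⟨i, -, rfl⟩ := Finset.mem_image.1 hf
    exact MvPolynomial.isHomogeneous_X A i) ValVan29.generated ((Scheme.Modules.pushforward ι).obj (D.obj i))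
    (QC70.isCoh_pushforward ι (D.obj i) hD)
  let b : ℕ := max a (-e₀).toNat
  obtain ⟨k, q, hq⟩ := ha b (le_max_left _ _)
  let O : (CohB1.ProjSpace n A).Modules := Twist.twist (CohB1.polyGrading n A) (-(b : ℤ))
  haveI := Amp73.epi_counit_of_isQuasiAffine ι (Amp73.isQuasiAffine_of_isAffineHom ι) hD.1
  haveI : (Scheme.Modules.pullback ι).PreservesEpimorphisms :=
    Functor.preservesEpimorphisms_of_adjunction (Scheme.Modules.pullbackPushforwardAdjunction ι)
  haveI : Epi ((Scheme.Modules.pullback ι).map q) :=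
    @Functor.map_epi _ _ _ _ (Scheme.Modules.pullback ι) _ _ _ q hq
  haveI : PreservesColimitsOfSize.{0, 0} (Scheme.Modules.pullback ι) :=
    (Scheme.Modules.pullbackPushforwardAdjunction ι).leftAdjoint_preservesColimits
  refine (cancel_epi ((Scheme.Modules.pullbackPushforwardAdjunction ι).counit.app (D.obj i))).1 ?_
  refine (cancel_epi ((Scheme.Modules.pullback ι).map q)).1 ?_
  refine (cancel_epi (PreservesCoproduct.iso (Scheme.Modules.pullback ι) (fun _ : Fin k => O)).inv).1 ?_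
  refine Sigma.hom_ext _ _ fun l => ?_
  simp only [← Category.assoc]
  have hk := key ⟨-(b : ℤ), by omega⟩ (Sigma.ι (fun _ : Fin k => (Scheme.Modules.pullback ι).obj O) l ≫
    (PreservesCoproduct.iso (Scheme.Modules.pullback ι) (fun _ : Fin k => O)).inv ≫
    (Scheme.Modules.pullback ι).map q ≫
    (Scheme.Modules.pullbackPushforwardAdjunction ι).counit.app (D.obj i) ≫ c.ι.app i)
  simp only [← Category.assoc] at hk ⊢
  exact hk

end Groth.Agent.CAlg8.Duality
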