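import Groth.Agent.FMK72.BaseChange
import Groth.Agent.FMK72.BoxEpi
import Groth.Agent.QC70.HomCoh
import Groth.Agent.SchBasics.PullSpan
import Groth.Agent.DirImg24.Basic
import Groth.Agent.S11121
import Groth.Agent.GRec72.Tensor
import Groth.Agent.QC70.PushFinite
import Groth.Agent.Crv77.Degree

/-! The right adjoint of the direct image along a finite morphism, on quasi-coherent modules. -/

set_option autoImplicit false
set_option linter.style.haveILetI false
set_option backward.isDefEq.respectTransparency.types false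
set_option maxHeartbeats 1000000
set_option synthInstance.maxHeartbeats 200000

universe u

open CategoryTheory CategoryTheory.Limits AlgebraicGeometry Opposite TopologicalSpace

noncomputable section

namespace Groth.Agent.CAlg8.Duality

open Groth.Agent QC70

variable {X Z : Scheme.{u}} (π : X ⟶ Z)

/-- `(ωX, τ)` represents `F ↦ Hom(π_* F, ωZ)` on quasi-coherent modules. -/
def Reps (ωZ : Z.Modules) (ωX : X.Modules) (τ : (Coh.push π).obj ωX ⟶ ωZ) : Prop :=
  ∀ F : X.Modules, Coh.IsQCoh F → Function.Bijective (fun φ : F ⟶ ωX => (Coh.push π).map φ ≫ τ)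

/-- The direct image of the structure sheaf. -/
abbrev dirO : Z.Modules := (Coh.push π).obj (Coh.structureModule X)

theorem exists_reps [CompactSpace X] [QuasiSeparatedSpace X] [IsAffineHom π] (ωZ : Z.Modules)
    (hωZ : Coh.IsQCoh ωZ) :
    ∃ (ωX : X.Modules) (τ : (Coh.push π).obj ωX ⟶ ωZ), Coh.IsQCoh ωX ∧ Reps π ωZ ωX τ := by
  haveI : PreservesColimitsOfSize.{u, u} (FMK72.pushQ π) := FMK72.preservesColimits_pushQ_of_isAffineHom π
  haveI : (FMK72.pushQ π).Additive := { }
  haveI := S11121.result X (FMK72.pushQ π)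
  let adj := Adjunction.ofIsLeftAdjoint (FMK72.pushQ π)
  let W := (FMK72.pushQ π).rightAdjoint.obj ⟨ωZ, hωZ⟩
  refine ⟨W.obj, (adj.counit.app ⟨ωZ, hωZ⟩).hom, W.property, fun F hF => ?_⟩
  let F' : QCohCat.QCoh X := ⟨F, hF⟩
  refine ⟨fun φ φ' h => ?_, fun ψ => ?_⟩
  · exact congrArg (fun g => g.hom) ((adj.homEquiv F' ⟨ωZ, hωZ⟩).symm.injective (a₁ := ⟨φ⟩) (a₂ := ⟨φ'⟩) (by
      rw [Adjunction.homEquiv_counit, Adjunction.homEquiv_counit]
      exact ObjectProperty.hom_ext _ h))
  · let φ := adj.homEquiv F' ⟨ωZ, hωZ⟩ ⟨ψ⟩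
    refine ⟨φ.hom, ?_⟩
    have h := (adj.homEquiv F' ⟨ωZ, hωZ⟩).symm_apply_apply ⟨ψ⟩
    rw [Adjunction.homEquiv_counit] at h
    exact congrArg (fun g => g.hom) h

variable {π}

/-- Sections of the direct image as modules over the direct image of the structure sheaf. -/
abbrev asB {U : Z.Opens} (b : Γ(dirO π, U)) : Γ(X, π ⁻¹ᵁ U) := b

/-- Sections of the structure sheaf act on sections over the preimage. -/
abbrev smB {M : X.Modules} {U : Z.Opens} (b : Γ(dirO π, U)) (t : Γ(M, π ⁻¹ᵁ U)) : Γ(M, π ⁻¹ᵁ U) := asB b • t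

/-- The map `b ↦ τ(b • n)`. -/
def actB {ωZ : Z.Modules} {ωX : X.Modules} (τ : (Coh.push π).obj ωX ⟶ ωZ) :
    (Coh.push π).obj ωX ⟶ homMod (dirO π) ωZ :=
  HomOn.toHom
    { app := fun W _ =>
        { toFun := fun n => HomOn.toSec
            { app := fun V hV =>
                { toFun := fun b => τ.app V (smB b (res ωX (π.preimage_mono hV) n))
                  map_add' := fun b b' => (congrArg (τ.app V) (add_smul (asB b) (asB b') (res ωX (π.preimage_mono hV) n))).trans
                    (map_add _ _ _)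
                  map_smul' := fun r b => by
                    refine (congrArg (τ.app V) ?_).trans
                      (τ.app_smul r (asB b • res ωX (π.preimage_mono hV) n : Γ(ωX, π ⁻¹ᵁ V)))
                    show asB (r • b) • (res ωX (π.preimage_mono hV) n) = π.app V r • (asB b • res ωX (π.preimage_mono hV) n)
                    rw [smul_smul]
                    rfl }
              app_res := fun {V V'} hV hle b => by
                show τ.app V' (asB (res (dirO π) hle b) • res ωX (π.preimage_mono (hle.trans hV)) n) =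
                  res ωZ hle (τ.app V (asB b • res ωX (π.preimage_mono hV) n))
                rw [← QC70.app_res]
                refine congrArg (τ.app V') ?_
                show _ = res ωX (π.preimage_mono hle) (asB b • res ωX (π.preimage_mono hV) n)
                rw [res_smul, res_res]
                rfl }
          map_add' := fun n n' => HomOn.ext' fun V hV b => by
            show τ.app V (smB b (res ωX (π.preimage_mono hV) (n + n'))) = _
            refine (congrArg (fun t => τ.app V (smB b t)) (res_add (π.preimage_mono hV) n n')).trans ?_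
            exact (congrArg (τ.app V) (smul_add (asB b) (res ωX (π.preimage_mono hV) n)
              (res ωX (π.preimage_mono hV) n'))).trans (map_add _ _ _)
          map_smul' := fun r n => HomOn.ext' fun V hV b => by
            show τ.app V (asB b • res ωX (π.preimage_mono hV) (π.app W r • (show Γ(ωX, π ⁻¹ᵁ W) from n))) =
              resO Z hV r • τ.app V (asB b • res ωX (π.preimage_mono hV) n)
            rw [res_smul, smul_comm]
            refine (congrArg (τ.app V) (congrArg (· • _) ?_)).trans
              (τ.app_smul (resO Z hV r) (asB b • res ωX (π.preimage_mono hV) n : Γ(ωX, π ⁻¹ᵁ V)))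
            exact (ConcreteCategory.congr_hom (π.naturality (homOfLE hV).op) r).symm }
      app_res := fun {W W'} _ hle n => HomOn.ext' fun V hV b => by
        show τ.app V (smB b (res ωX (π.preimage_mono hV) (res ωX (π.preimage_mono hle) n))) =
          τ.app V (smB b (res ωX (π.preimage_mono (hV.trans hle)) n))
        rw [res_res] }

theorem actB_app {ωZ : Z.Modules} {ωX : X.Modules} (τ : (Coh.push π).obj ωX ⟶ ωZ) {W V : Z.Opens}
    (hV : V ≤ W) (n : Γ(ωX, π ⁻¹ᵁ W)) (b : Γ(dirO π, V)) :
    (ofSec ((actB τ).app W n)).app V hV b = τ.app V (smB b (res ωX (π.preimage_mono hV) n)) := rfl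

variable (π)

/-- `(b, h) ↦ b • h` from `π_*O × G` to `π_* π^* G`. -/
def scalPairing (G : Z.Modules) :
    Mero90.Pairing (dirO π) G ((Coh.push π).obj ((Scheme.Modules.pullback π).obj G)) where
  b U b g := smB b (Amp73.pullS π G U g)
  add_left U b b' g := add_smul (asB b) (asB b') (Amp73.pullS π G U g)
  add_right U b g g' := by
    have h : Amp73.pullS π G U (g + g') = Amp73.pullS π G U g + Amp73.pullS π G U g' := map_add _ _ _
    show smB b (Amp73.pullS π G U (g + g')) = smB b (Amp73.pullS π G U g) + smB b (Amp73.pullS π G U g')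
    rw [h]
    exact smul_add _ _ _
  smul_left U r b g := by
    show asB (r • b) • Amp73.pullS π G U g = π.app U r • (asB b • Amp73.pullS π G U g)
    rw [smul_smul]
    rfl
  smul_right U r b g := by
    show asB b • Amp73.pullS π G U (r • g) = π.app U r • (asB b • Amp73.pullS π G U g)
    rw [Amp73.pullS_smul, smul_comm]
  nat U V h b g := by
    show asB (res (dirO π) h b) • Amp73.pullS π G V (res G h g) =
      res ((Scheme.Modules.pullback π).obj G) (π.preimage_mono h) (asB b • Amp73.pullS π G U g)
    rw [res_smul, ← Amp73.res_pullS]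
    rfl

theorem isCoh_of_isCoh_push [IsAffineHom π] {F : X.Modules} (hF : Coh.IsQCoh F)
    (h : Coh.IsCoh ((Coh.push π).obj F)) : Coh.IsCoh F := by
  haveI : F.IsQuasicoherent := hF
  haveI := h.1
  haveI := h.2
  refine ⟨inferInstance, isFiniteType_of_finite_sections _ (fun W : Z.affineOpens => π ⁻¹ᵁ W.1)
    (IsOpenCover.mk (by rw [← Scheme.Hom.preimage_iSup, iSup_affineOpens_eq_top Z]; rfl)) (fun W => W.2.preimage π)
    fun W => ?_⟩
  obtain ⟨S, hS⟩ := (finite_sections_of_isFiniteType ((Coh.push π).obj F) W.2).fg_top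
  refine ⟨⟨S, eq_top_iff.mpr fun t _ => ?_⟩⟩
  have ht : t ∈ Submodule.span Γ(Z, W.1) (S : Set Γ((Coh.push π).obj F, W.1)) := hS ▸ trivial
  induction ht using Submodule.span_induction with
  | mem y hy => exact Submodule.subset_span hy
  | zero => exact zero_mem _
  | add y z _ _ hy hz => exact add_mem (hy trivial) (hz trivial)
  | smul a y _ hy => exact Submodule.smul_mem _ (π.app W.1 a) (hy trivial)

/-- The projection formula `π_*O ⊗ G = π_* π^* G`. -/
theorem isIso_scal [IsAffineHom π] (G : Z.Modules) [G.IsQuasicoherent] : IsIso (scalPairing π G).lift := by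
  have e : (scalPairing π G).lift = (FMK72.projNat π G).app (Coh.structureModule X) ≫
      (Coh.push π).map (EGA73.tensUnitLeft ((Scheme.Modules.pullback π).obj G)).hom := by
    refine GRec72.hom_ext_tmul fun U b g => ?_
    refine ((scalPairing π G).lift_tmul U b g).trans ?_
    show _ = (EGA73.tensUnitLeft ((Scheme.Modules.pullback π).obj G)).hom.app (π ⁻¹ᵁ U)
      ((ValVan29.projHom π (Coh.structureModule X) G).app U (SecTwist.tmul _ G U b g))
    rw [ValVan29.projHom, Mero90.Pairing.lift_tmul]
    exact (FMK72.tensUnitLeft_tm _ (asB b) (Amp73.pullS π G U g)).symm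
  haveI : (Coh.structureModule X).IsQuasicoherent := (QC70.isQuasicoherent_unit (X := X))
  rw [e]
  exact @IsIso.comp_isIso _ _ _ _ _ _ _ (FMK72.isIso_projNat_app π G (Coh.structureModule X))
    (Functor.map_isIso _ _)

/-- Evaluation. -/
def evPairing (M N : Z.Modules) : Mero90.Pairing M (homMod M N) N where
  b U m h := (ofSec h).app U le_rfl m
  add_left U m m' h := map_add _ _ _
  add_right U m h h' := rfl
  smul_left U r m h := map_smul _ _ _
  smul_right U r m h := by
    show resO Z le_rfl r • (ofSec h).app U le_rfl m = _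
    rw [resO_self]
  nat U V h m φ := by
    show (ofSec (res (homMod M N) h φ)).app V le_rfl (res M h m) = _
    rw [homMod_res_app]
    exact (ofSec φ).app_res le_rfl h m

theorem isCoh_dirO [IsFinite π] [IsLocallyNoetherian Z] : Coh.IsCoh (dirO π) := by
  haveI : IsLocallyNoetherian X := LocallyOfFiniteType.isLocallyNoetherian π
  exact QC70.isCoh_pushforward_of_isFinite π _ Crv77.isCoh_structureModule

theorem isQuasicoherent_homMod_dirO [IsFinite π] [IsLocallyNoetherian Z] {N : Z.Modules} (hN : Coh.IsQCoh N) :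
    (homMod (dirO π) N).IsQuasicoherent := by
  haveI := (isCoh_dirO π).1
  haveI := (isCoh_dirO π).2
  haveI : N.IsQuasicoherent := hN
  exact isQuasicoherent_of_forall_isLocAt _ fun U hU => by
    haveI := finite_sections_of_isFiniteType (dirO π) hU
    haveI := IsLocallyNoetherian.component_noetherian (⟨U, hU⟩ : Z.affineOpens)
    haveI := Module.finitePresentation_of_finite Γ(Z, U) Γ(dirO π, U)
    exact isLocAt_homMod (isLocAt_of_isQuasicoherent N hU) hU

variable {π}

set_option maxHeartbeats 4000000 in
/-- `π_* ωX` is the sheaf of homomorphisms from `π_*O` to `ωZ`. -/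
theorem isIso_actB [IsFinite π] [IsLocallyNoetherian Z] {ωZ : Z.Modules} (hωZ : Coh.IsQCoh ωZ)
    {ωX : X.Modules} (hωX : Coh.IsQCoh ωX) {τ : (Coh.push π).obj ωX ⟶ ωZ} (h : Reps π ωZ ωX τ) :
    IsIso (actB τ) := by
  haveI : ωX.IsQuasicoherent := hωX
  haveI := isQuasicoherent_homMod_dirO π hωZ
  let H := homMod (dirO π) ωZ
  haveI : ((Coh.push π).obj ωX).IsQuasicoherent := QCqs72.isQuasicoherent_pushforward (M := ωX) π
  haveI := isIso_scal π H
  let ψ : (Coh.push π).obj ((Scheme.Modules.pullback π).obj H) ⟶ ωZ :=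
    inv (scalPairing π H).lift ≫ (evPairing (dirO π) ωZ).lift
  haveI : ((Scheme.Modules.pullback π).obj H).IsQuasicoherent := QCPull72.isQuasicoherent_pullback π H
  obtain ⟨u, hu⟩ := (h _ (inferInstance : ((Scheme.Modules.pullback π).obj H).IsQuasicoherent)).2 ψ
  let adj := Scheme.Modules.pullbackPushforwardAdjunction π
  let s : H ⟶ (Coh.push π).obj ωX := adj.homEquiv H ωX u
  have hs : ∀ (V : Z.Opens) (φ : Γ(H, V)), s.app V φ = u.app (π ⁻¹ᵁ V) (Amp73.pullS π H V φ) := fun V φ => by
    show (adj.homEquiv H ωX u).app V φ = _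
    rw [Adjunction.homEquiv_unit]
    rfl
  have hψ : ∀ (V : Z.Opens) (b : Γ(dirO π, V)) (φ : Γ(H, V)),
      τ.app V (smB b (u.app (π ⁻¹ᵁ V) (Amp73.pullS π H V φ))) = (ofSec φ).app V le_rfl b := by
    intro V b φ
    refine (congrArg (τ.app V) (u.app_smul (asB b) (Amp73.pullS π H V φ)).symm).trans ?_
    refine (congrArg (fun g => Scheme.Modules.Hom.app g V (asB b • Amp73.pullS π H V φ :)) hu).trans ?_
    have e₁ : (scalPairing π H).lift.app V (SecTwist.tmul (dirO π) H V b φ) = (asB b • Amp73.pullS π H V φ :) :=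
      (scalPairing π H).lift_tmul V b φ
    rw [← e₁]
    refine (congrArg (fun g => Scheme.Modules.Hom.app g V (SecTwist.tmul (dirO π) H V b φ))
      (IsIso.hom_inv_id_assoc (scalPairing π H).lift (evPairing (dirO π) ωZ).lift)).trans ?_
    exact (evPairing (dirO π) ωZ).lift_tmul V b φ
  have hsa : s ≫ actB τ = 𝟙 H := by
    refine Scheme.Modules.hom_ext _ _ fun W => ?_
    ext φ
    refine HomOn.ext' fun V hV b => ?_
    show (ofSec ((actB τ).app W (s.app W φ))).app V hV b = (ofSec φ).app V hV b
    rw [actB_app]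
    have := hψ V b (res H hV φ)
    rw [homMod_res_app, ← hs] at this
    rw [← this, QC70.app_res s hV φ]
    rfl
  haveI : Mono (actB τ) := by
    refine Preadditive.mono_of_kernel_iso_zero ((IsZero.iff_id_eq_zero _).2 ?_).isoZero
    let K := kernel (actB τ)
    haveI : K.IsQuasicoherent := QC70.isQuasicoherent_kernel (actB τ)
    let v : (Scheme.Modules.pullback π).obj K ⟶ ωX := (adj.homEquiv K ωX).symm (kernel.ι (actB τ))
    haveI : ((Scheme.Modules.pullback π).obj K).IsQuasicoherent := QCPull72.isQuasicoherent_pullback π K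
    haveI := isIso_scal π K
    have hv : (Coh.push π).map v ≫ τ = 0 := by
      rw [← cancel_epi (scalPairing π K).lift, comp_zero]
      refine GRec72.hom_ext_tmul fun V b k => ?_
      show τ.app V (v.app (π ⁻¹ᵁ V) ((scalPairing π K).lift.app V (SecTwist.tmul (dirO π) K V b k))) = 0
      rw [(scalPairing π K).lift_tmul V b k]
      show τ.app V (v.app (π ⁻¹ᵁ V) (smB b (Amp73.pullS π K V k))) = 0
      rw [v.app_smul]
      have hk : v.app (π ⁻¹ᵁ V) (Amp73.pullS π K V k) = (kernel.ι (actB τ)).app V k := by
        have := (adj.homEquiv K ωX).apply_symm_apply (kernel.ι (actB τ))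
        rw [Adjunction.homEquiv_unit] at this
        exact congrArg (fun g => Scheme.Modules.Hom.app g V k) this
      have h0 : (ofSec ((actB τ).app V ((kernel.ι (actB τ)).app V k))).app V le_rfl b = 0 :=
        congrArg (fun g : K ⟶ H => (ofSec (g.app V k)).app V le_rfl b) (kernel.condition (actB τ))
      rw [hk]
      refine Eq.trans ?_ h0
      rw [actB_app, res_self]
    have hv0 : v = 0 := (h _ (inferInstance : ((Scheme.Modules.pullback π).obj K).IsQuasicoherent)).1
      (hv.trans (show _ = (Coh.push π).map (0 : _ ⟶ ωX) ≫ τ by rw [Functor.map_zero, zero_comp]))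
    rw [← cancel_mono (kernel.ι (actB τ)), Category.id_comp, zero_comp,
      ← (adj.homEquiv K ωX).apply_symm_apply (kernel.ι (actB τ))]
    show adj.homEquiv K ωX v = 0
    rw [hv0, Adjunction.homEquiv_unit]
    have h0 : (Scheme.Modules.pushforward π).map (0 : (Scheme.Modules.pullback π).obj K ⟶ ωX) = 0 :=
      Functor.map_zero _ _ _
    exact (congrArg (adj.unit.app K ≫ ·) h0).trans comp_zero
  haveI : IsSplitEpi (actB τ) := ⟨⟨⟨s, hsa⟩⟩⟩
  exact isIso_of_mono_of_isSplitEpi _

theorem isCoh_of_reps [IsFinite π] [IsLocallyNoetherian Z] {ωZ : Z.Modules} (hωZ : Coh.IsCoh ωZ)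
    {ωX : X.Modules} (hωX : Coh.IsQCoh ωX) {τ : (Coh.push π).obj ωX ⟶ ωZ} (h : Reps π ωZ ωX τ) :
    Coh.IsCoh ωX := by
  haveI := isIso_actB hωZ.1 hωX h
  exact isCoh_of_isCoh_push π hωX
    (QC70.isCoh_of_iso (asIso (actB τ)).symm (QC70.isCoh_homMod (isCoh_dirO π) hωZ))

end Groth.Agent.CAlg8.Duality
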