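import Groth.Agent.QC70.HomTensor
import Groth.Agent.GRec72.Tensor
import Groth.Agent.Mero90.TensorLift
import Groth.Agent.CAlg8.Duality.Finite
import Groth.Agent.EGA73.MorDetNorm
import Groth.Agent.EGA73.GammaStarIso

/-! `homMod B O ⊗ N ≅ homMod B N` when `B` or `N` is locally free, and the twist formula for `π^!`. -/

set_option autoImplicit false
set_option linter.style.haveILetI false
set_option backward.isDefEq.respectTransparency.types false
set_option maxHeartbeats 1000000
set_option synthInstance.maxHeartbeats 200000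

universe u

open CategoryTheory CategoryTheory.Limits AlgebraicGeometry Opposite TopologicalSpace MonoidalCategory

noncomputable section

namespace Groth.Agent.CAlg8.Duality

open Groth.Agent QC70 Props58.LocFree

variable {X Z : Scheme.{u}} {B N : Z.Modules} {U V : Z.Opens}

theorem bijective_dualPair_right {n : ℕ} {s : Fin n → Γ(N, U)} (hs : StalkBasis s) (hV : V ≤ U) :
    Function.Bijective ((dualPair B N).app (op V)) := by
  classical
  let sV : Fin n → Γ(N, V) := fun i => res N hV (s i)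
  have hsV : StalkBasis sV := hs.restrict hV
  let c : Fin n → HomOn N (unitMod Z) V := fun i =>
    HomOn.ofBasis (P := unitMod Z) hsV (fun j => toUnit (if j = i then 1 else 0))
  have hc : ∀ {W : Z.Opens} (hW : W ≤ V) (i : Fin n) (a : Fin n → Γ(Z, W)),
      toO ((c i).app W hW (∑ j, a j • res N hW (sV j))) = a i := fun {W} hW i a => by
    refine (congrArg toO (HomOn.ofBasis_app_comb (P := unitMod Z) hsV
      (fun j => toUnit (if j = i then 1 else 0)) hW a)).trans ?_
    refine (congrArg toO (Finset.sum_eq_single i (fun j _ hj => ?_) (by simp))).trans ?_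
    · rw [if_neg hj]
      exact (congrArg (a j • ·) (res_zero hW)).trans (smul_zero _)
    · rw [if_pos rfl]
      show a i * (Z.presheaf.map (homOfLE hW).op) (1 : Γ(Z, V)) = a i
      rw [map_one, mul_one]
  let coord : Γ(homMod B N, V) → Fin n → Γ(dualMod B, V) := fun ψ i => HomOn.toSec
    { app := fun W hW => ((c i).app W hW).comp ((ofSec ψ).app W hW)
      app_res := fun {W W'} hW h z => by
        simp only [LinearMap.comp_apply]
        rw [(ofSec ψ).app_res hW h, (c i).app_res hW h] }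
  let inv : Γ(homMod B N, V) → (Mod48.pre N ⊗ Mod48.pre (dualMod B) : Mod48.PreM Z.sheaf).obj (op V) :=
    fun ψ => ∑ j, Mod48.tp (M := Mod48.pre (O := Z.sheaf) N) (N := Mod48.pre (dualMod B)) (sV j) (coord ψ j)
  have hsum : ∀ (f : Fin n → HomOn B N V) (W : Z.Opens) (hW : W ≤ V) (z : Γ(B, W)),
      (∑ j, f j).app W hW z = ∑ j, (f j).app W hW z := fun f W hW z =>
    map_sum ({ toFun := fun φ : HomOn B N V => φ.app W hW z
               map_zero' := rfl
               map_add' := fun _ _ => rfl } : HomOn B N V →+ Γ(N, W)) f _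
  have hright : ∀ ψ, (dualPair B N).app (op V) (inv ψ) = ψ := fun ψ => by
    refine (map_sum ((dualPair B N).app (op V)).hom _ _).trans ?_
    refine (show ∑ j, ((ofSec (coord ψ j)).formSmul (sV j)) = ofSec ψ from HomOn.ext' fun W hW z => ?_)
    rw [hsum]
    obtain ⟨a, ha⟩ := hsV.exists_comb hW ((ofSec ψ).app W hW z)
    refine (Finset.sum_congr rfl fun j _ => ?_).trans ha
    rw [HomOn.formSmul_app]
    refine congrArg (· • res N hW (sV j)) ?_
    show toO ((c j).app W hW ((ofSec ψ).app W hW z)) = a j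
    rw [← ha, hc]
  have hleft : ∀ w, inv ((dualPair B N).app (op V) w) = w := by
    intro w
    induction w using TensorProduct.induction_on with
    | zero =>
      refine (congrArg inv (map_zero ((dualPair B N).app (op V)).hom)).trans
        (Finset.sum_eq_zero fun j _ => ?_)
      refine Eq.trans (congrArg _ ?_) (TensorProduct.tmul_zero _ _)
      exact HomOn.ext' fun W hW z => map_zero ((c j).app W hW)
    | tmul m φ =>
      obtain ⟨a, ha⟩ := hsV.exists_comb le_rfl m
      have hco : ∀ j, coord ((ofSec φ).formSmul m).toSec j = a j • φ := fun j => HomOn.ext' fun W hW z => by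
        show (c j).app W hW (((ofSec φ).formSmul m).app W hW z) = resO Z hW (a j) • (ofSec φ).app W hW z
        rw [HomOn.formSmul_app, LinearMap.map_smul]
        have hm : res N hW m = ∑ i, resO Z hW (a i) • res N hW (sV i) := by
          rw [← ha, res_sum]
          exact Finset.sum_congr rfl fun i _ => by rw [res_smul, res_self]
        have e := hc hW j (fun i => resO Z hW (a i))
        rw [← hm] at e
        show toO ((ofSec φ).app W hW z) * toO ((c j).app W hW (res N hW m)) =
          resO Z hW (a j) * toO ((ofSec φ).app W hW z)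
        rw [e, mul_comm]
      change ∑ j, Mod48.tp (M := Mod48.pre (O := Z.sheaf) N) (N := Mod48.pre (dualMod B)) (sV j)
        (coord ((ofSec φ).formSmul m).toSec j) = Mod48.tp m φ
      conv_rhs => rw [← ha]
      refine Eq.trans ?_ (TensorProduct.sum_tmul _ _ _).symm
      refine Finset.sum_congr rfl fun j _ => ?_
      rw [hco, res_self]
      exact (Mod48.tp_smul_right (M := Mod48.pre (O := Z.sheaf) N) (N := Mod48.pre (dualMod B))
          (a j) (sV j) φ).trans
        (Mod48.tp_smul_left (M := Mod48.pre (O := Z.sheaf) N) (N := Mod48.pre (dualMod B))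
          (a j) (sV j) φ).symm
    | add w w' hw hw' =>
      refine Eq.trans ((congrArg inv (map_add ((dualPair B N).app (op V)).hom w w')).trans ?_)
        (congrArg₂ (· + ·) hw hw')
      refine Eq.trans (Finset.sum_congr rfl fun j _ => ?_) Finset.sum_add_distrib
      refine Eq.trans (congrArg _ ?_) (TensorProduct.tmul_add _ _ _)
      exact HomOn.ext' fun W hW z => map_add ((c j).app W hW) _ _
  exact ⟨fun w w' h => by rw [← hleft w, h, hleft w'], fun ψ => ⟨inv ψ, hright ψ⟩⟩

/-- `(φ, g) ↦ φ(-) g`. -/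
def formPairing (B N : Z.Modules) : Mero90.Pairing (dualMod B) N (homMod B N) where
  b U φ g := ((ofSec φ).formSmul g).toSec
  add_left U φ φ' g := HomOn.ext' fun V hV z =>
    add_smul (toO ((ofSec φ).app V hV z)) (toO ((ofSec φ').app V hV z)) _
  add_right U φ g g' := HomOn.ext' fun V hV z =>
    (congrArg ((toO ((ofSec φ).app V hV z)) • ·) (res_add hV g g')).trans (smul_add _ _ _)
  smul_left U r φ g := HomOn.ext' fun V hV z =>
    mul_smul (resO Z hV r) (toO ((ofSec φ).app V hV z)) _
  smul_right U r φ g := HomOn.ext' fun V hV z => by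
    refine (congrArg ((toO ((ofSec φ).app V hV z)) • ·) (res_smul hV r g)).trans ?_
    show toO ((ofSec φ).app V hV z) • resO Z hV r • res N hV g = resO Z hV r • (toO ((ofSec φ).app V hV z) • _)
    rw [smul_smul, smul_smul, mul_comm]
  nat U V h φ g := HomOn.ext' fun W hW z => by
    show toO ((ofSec φ).app W (hW.trans h) z) • res N hW (res N h g) =
      toO ((ofSec φ).app W (hW.trans h) z) • res N (hW.trans h) g
    rw [res_res]

theorem isIso_formPairing_lift (h : FlatMod.IsFinLocFree B ∨ FlatMod.IsFinLocFree N) :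
    IsIso (formPairing B N).lift := by
  have hb : ∀ y : Z, ∃ U : Z.Opens, y ∈ U ∧ ∀ V ≤ U, Function.Bijective ((dualPair B N).app (op V)) := by
    intro y
    rcases h with h | h
    · obtain ⟨U, n, s, hy, hs⟩ := isFinLocFree_iff.mp h y
      exact ⟨U, hy, fun V hV => bijective_dualPair hs hV⟩
    · obtain ⟨U, n, s, hy, hs⟩ := isFinLocFree_iff.mp h y
      exact ⟨U, hy, fun V hV => bijective_dualPair_right hs hV⟩
  let P := formPairing B N
  have hcomm : ∀ (V : Z.Opens) (w : (CohB1.tensorPre (dualMod B) N).obj (op V)),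
      P.preLift.app (op V) w = (dualPair B N).app (op V) (TensorProduct.comm _ _ _ w) := by
    intro V w
    induction w using TensorProduct.induction_on with
    | zero => exact (map_zero (P.preLift.app (op V)).hom).trans (map_zero ((dualPair B N).app (op V)).hom).symm
    | tmul φ g => rfl
    | add w w' hw hw' =>
      refine (map_add (P.preLift.app (op V)).hom w w').trans ((congrArg₂ (· + ·) hw hw').trans ?_)
      refine ((map_add ((dualPair B N).app (op V)).hom _ _).symm).trans (congrArg _ ?_)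
      exact (map_add (TensorProduct.comm _ _ _) w w').symm
  have hbij : ∀ y : Z, ∃ U : Z.Opens, y ∈ U ∧ ∀ V ≤ U, Function.Bijective (P.preLift.app (op V)) := fun y => by
    obtain ⟨U, hy, hU⟩ := hb y
    refine ⟨U, hy, fun V hV => ?_⟩
    rw [show ⇑(P.preLift.app (op V)).hom = (dualPair B N).app (op V) ∘ TensorProduct.comm _ _ _ from
      funext (hcomm V)]
    exact (hU V hV).comp (TensorProduct.comm _ _ _).bijective
  choose U hyU hU using hbij
  have : IsIso ((Mod48.shf (O := Z.sheaf)).map P.preLift) := by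
    rw [Mod48.isIso_shf_map_iff_isLocalIso]
    refine ⟨⟨fun {W} z z' hz => ?_⟩, ⟨fun {W} t => ?_⟩⟩
    · intro x hx
      refine ⟨W.unop ⊓ U x, homOfLE inf_le_left, ?_, hx, hyU x⟩
      refine (hU x _ inf_le_right).1 ?_
      exact (PresheafOfModules.naturality_apply P.preLift (homOfLE inf_le_left).op z).trans
        ((congrArg (fun w => (Mod48.pre (O := Z.sheaf) (homMod B N)).map
          (homOfLE (inf_le_left : W.unop ⊓ U x ≤ W.unop)).op w)
          (show (P.preLift.app W).hom z = (P.preLift.app W).hom z' from hz)).trans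
          (PresheafOfModules.naturality_apply P.preLift (homOfLE inf_le_left).op z').symm)
    · intro x hx
      refine ⟨W ⊓ U x, homOfLE inf_le_left, ?_, hx, hyU x⟩
      exact (hU x _ inf_le_right).2 _
  show IsIso (formPairing B N).lift
  unfold Mero90.Pairing.lift
  exact IsIso.comp_isIso' this inferInstance

variable (π : X ⟶ Z)

theorem locallyOfFinitePresentation_of_isFinite [IsFinite π] [IsLocallyNoetherian Z] :
    LocallyOfFinitePresentation π := by
  rw [HasRingHomProperty.iff_appLE (P := @LocallyOfFinitePresentation)]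
  intro U W e
  haveI := IsLocallyNoetherian.component_noetherian U
  have h : (π.appLE U W e).hom.FiniteType := π.finiteType_appLE U.2 W.2 e
  exact RingHom.FinitePresentation.of_finiteType.1 h

/-- `(m, g) ↦ τ₀(m) g`. -/
def twistPairing {ωπ : X.Modules} (τ₀ : (Coh.push π).obj ωπ ⟶ Coh.structureModule Z) (N : Z.Modules) :
    Mero90.Pairing ((Coh.push π).obj ωπ) N N where
  b U m g := toO (τ₀.app U m) • g
  add_left U m m' g := by
    rw [map_add]
    exact add_smul (toO (τ₀.app U m)) (toO (τ₀.app U m')) g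
  add_right U m g g' := smul_add _ _ _
  smul_left U r m g := by
    rw [τ₀.app_smul]
    exact mul_smul r (toO (τ₀.app U m)) g
  smul_right U r m g := smul_comm _ _ _
  nat U V h m g := by
    show toO (τ₀.app V (res ((Coh.push π).obj ωπ) h m)) • res N h g = res N h (toO (τ₀.app U m) • g)
    rw [QC70.app_res, res_smul]
    rfl

/-- A morphism tensored with a module. -/
def mapPairing {L L' : Z.Modules} (f : L ⟶ L') (N : Z.Modules) : Mero90.Pairing L N (CohB1.tensorMod L' N) where
  b U m g := Amp73.tm L' N (f.app U m) g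
  add_left U m m' g := by rw [map_add, Amp73.tm_add_left]
  add_right U m g g' := Amp73.tm_add_right _ _ _
  smul_left U r m g := by rw [f.app_smul, Amp73.tm_smul_left]
  smul_right U r m g := Amp73.tm_smul_right _ _ _
  nat U V h m g := by
    rw [Amp73.res_tm]
    exact congrArg (fun z => Amp73.tm L' N z _) (QC70.app_res f h m)

theorem mapPairing_comp {L L' : Z.Modules} (f : L ⟶ L') (f' : L' ⟶ L) (N : Z.Modules) (h : f ≫ f' = 𝟙 L) :
    (mapPairing f N).lift ≫ (mapPairing f' N).lift = 𝟙 _ := by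
  refine GRec72.hom_ext_tmul fun U m g => ?_
  show (mapPairing f' N).lift.app U ((mapPairing f N).lift.app U (SecTwist.tmul L N U m g)) = SecTwist.tmul L N U m g
  rw [(mapPairing f N).lift_tmul U m g]
  refine ((mapPairing f' N).lift_tmul U (f.app U m) g).trans ?_
  show Amp73.tm L N (f'.app U (f.app U m)) g = Amp73.tm L N m g
  exact congrArg (fun k => Amp73.tm L N (Scheme.Modules.Hom.app k U m) g) h

theorem isIso_mapPairing {L L' : Z.Modules} (f : L ⟶ L') [IsIso f] (N : Z.Modules) :
    IsIso (mapPairing f N).lift :=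
  ⟨⟨_, mapPairing_comp f (inv f) N (IsIso.hom_inv_id f), mapPairing_comp (inv f) f N (IsIso.inv_hom_id f)⟩⟩

theorem formTau_tmul {ωπ : X.Modules} (τ₀ : (Coh.push π).obj ωπ ⟶ Coh.structureModule Z) (N : Z.Modules)
    (U : Z.Opens) (m : Γ(ωπ, π ⁻¹ᵁ U)) (g : Γ(N, U)) :
    ((mapPairing (actB τ₀) N).lift ≫ (formPairing (dirO π) N).lift).app U
        (SecTwist.tmul ((Coh.push π).obj ωπ) N U m g) =
      ((ofSec ((actB τ₀).app U m)).formSmul g).toSec :=
  (congrArg ((formPairing (dirO π) N).lift.app U) ((mapPairing (actB τ₀) N).lift_tmul U m g)).trans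
    ((formPairing (dirO π) N).lift_tmul U _ g)

theorem proj_tmul (ωπ : X.Modules) (N : Z.Modules) (U : Z.Opens) (m : Γ(ωπ, π ⁻¹ᵁ U)) (g : Γ(N, U)) :
    (ValVan29.projHom π ωπ N).app U (SecTwist.tmul ((Coh.push π).obj ωπ) N U m g) =
      Amp73.tm ωπ ((Scheme.Modules.pullback π).obj N) (U := π ⁻¹ᵁ U) m (Amp73.pullS π N U g) :=
  (ValVan29.projPairing π ωπ N).lift_tmul U m g

theorem res_tm_pullS (ωπ : X.Modules) (N : Z.Modules) {U V : Z.Opens} (hV : V ≤ U) (m : Γ(ωπ, π ⁻¹ᵁ U))
    (g : Γ(N, U)) :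
    res (CohB1.tensorMod ωπ ((Scheme.Modules.pullback π).obj N)) (π.preimage_mono hV)
        (Amp73.tm ωπ ((Scheme.Modules.pullback π).obj N) (U := π ⁻¹ᵁ U) m (Amp73.pullS π N U g)) =
      Amp73.tm ωπ ((Scheme.Modules.pullback π).obj N) (U := π ⁻¹ᵁ V) (res ωπ (π.preimage_mono hV) m)
        (Amp73.pullS π N V (res N hV g)) :=
  (Amp73.res_tm (π.preimage_mono hV) m _).trans
    (congrArg (Amp73.tm ωπ _ (res ωπ (π.preimage_mono hV) m)) (Amp73.res_pullS π N hV g))

theorem act_comp {ωX ωπ W : X.Modules} {N : Z.Modules} (τ : (Coh.push π).obj ωX ⟶ N)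
    (τ₀ : (Coh.push π).obj ωπ ⟶ Coh.structureModule Z) (κ : W ⟶ ωX)
    (t : ∀ V : Z.Opens, Γ(ωπ, π ⁻¹ᵁ V) → Γ(N, V) → Γ(W, π ⁻¹ᵁ V))
    (hres : ∀ {U V : Z.Opens} (hV : V ≤ U) m g,
      res W (π.preimage_mono hV) (t U m g) = t V (res ωπ (π.preimage_mono hV) m) (res N hV g))
    (hsmul : ∀ V (b : Γ(dirO π, V)) m g, smB b (t V m g) = t V (smB b m) g)
    (hκ : ∀ V m g, τ.app V (κ.app (π ⁻¹ᵁ V) (t V m g)) = toO (τ₀.app V m) • g)
    {U V : Z.Opens} (hV : V ≤ U) (m : Γ(ωπ, π ⁻¹ᵁ U)) (g : Γ(N, U)) (b : Γ(dirO π, V)) :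
    (ofSec ((actB τ).app U (κ.app (π ⁻¹ᵁ U) (t U m g)))).app V hV b =
      toO (τ₀.app V (smB b (res ωπ (π.preimage_mono hV) m))) • res N hV g := by
  refine (actB_app τ hV _ b).trans ?_
  refine Eq.trans (congrArg (τ.app V) ?_) (hκ V _ _)
  refine (congrArg (fun z => smB b z) ((QC70.app_res κ (π.preimage_mono hV) (t U m g)).symm.trans
    (congrArg (κ.app (π ⁻¹ᵁ V)) (hres hV m g)))).trans ?_
  refine (κ.app_smul (asB b) (t V (res ωπ (π.preimage_mono hV) m) (res N hV g))).symm.trans ?_
  exact congrArg (κ.app (π ⁻¹ᵁ V)) (hsmul V b _ _)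

theorem isIso_of_comp_eq {P Q R S T : Z.Modules} (p : P ⟶ Q) (k : Q ⟶ R) (a : R ⟶ S) (f : P ⟶ T) (g : T ⟶ S)
    [IsIso p] [IsIso a] [IsIso f] [IsIso g] (e : p ≫ k ≫ a = f ≫ g) : IsIso k := by
  haveI : IsIso (p ≫ k ≫ a) := by rw [e]; infer_instance
  haveI : IsIso (k ≫ a) := IsIso.of_isIso_comp_left p _
  exact IsIso.of_isIso_comp_right _ a

theorem isIso_of_push [IsAffineHom π] {F G : X.Modules} [F.IsQuasicoherent] [G.IsQuasicoherent] (κ : F ⟶ G)
    [IsIso ((Coh.push π).map κ)] : IsIso κ :=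
  EGA73.isIso_of_bijective_cover κ (fun U : Z.affineOpens => π ⁻¹ᵁ U.1)
    (fun U => U.2.preimage π) (fun x => by
      obtain ⟨U, hU, hxU, -⟩ := exists_isAffineOpen_mem_and_subset (X := Z) (x := π x) (U := ⊤) trivial
      exact ⟨⟨U, hU⟩, hxU⟩) fun U => by
      haveI := Scheme.Modules.Hom.isIso_iff_isIso_app.1 ‹IsIso ((Coh.push π).map κ)› U.1
      exact ConcreteCategory.bijective_of_isIso (((Coh.push π).map κ).app U.1)

theorem hom_formula {ωX ωπ : X.Modules} {N : Z.Modules} (τ : (Coh.push π).obj ωX ⟶ N)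
    (τ₀ : (Coh.push π).obj ωπ ⟶ Coh.structureModule Z)
    (κ : CohB1.tensorMod ωπ ((Scheme.Modules.pullback π).obj N) ⟶ ωX)
    (hp : ValVan29.projHom π ωπ N ≫ (Coh.push π).map κ ≫ τ = (twistPairing π τ₀ N).lift) :
    ValVan29.projHom π ωπ N ≫ (Coh.push π).map κ ≫ actB τ =
      (mapPairing (actB τ₀) N).lift ≫ (formPairing (dirO π) N).lift := by
  have hκ : ∀ V m g, τ.app V (κ.app (π ⁻¹ᵁ V)
      (Amp73.tm ωπ ((Scheme.Modules.pullback π).obj N) (U := π ⁻¹ᵁ V) m (Amp73.pullS π N V g))) =
        toO (τ₀.app V m) • g := fun V m g => by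
    refine Eq.trans ?_ ((congrArg (fun q => Scheme.Modules.Hom.app q V (SecTwist.tmul ((Coh.push π).obj ωπ) N V m g))
      hp).trans ((twistPairing π τ₀ N).lift_tmul V m g))
    rw [← proj_tmul π ωπ N V m g]
    rfl
  refine GRec72.hom_ext_tmul fun U m g => HomOn.ext' fun V hV b => ?_
  refine Eq.trans ?_ (congrArg (fun q => (ofSec q).app V hV b) (formTau_tmul π τ₀ N U m g)).symm
  have h1 : (ValVan29.projHom π ωπ N ≫ (Coh.push π).map κ ≫ actB τ).app U
      (SecTwist.tmul ((Coh.push π).obj ωπ) N U m g) =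
      (actB τ).app U (κ.app (π ⁻¹ᵁ U)
        (Amp73.tm ωπ ((Scheme.Modules.pullback π).obj N) (U := π ⁻¹ᵁ U) m (Amp73.pullS π N U g))) := by
    rw [← proj_tmul π ωπ N U m g]
    rfl
  refine (congrArg (fun q => (ofSec q).app V hV b) h1).trans ?_
  exact act_comp π τ τ₀ κ _ (fun hV m g => res_tm_pullS π ωπ N hV m g)
    (fun V b m g => (Amp73.tm_smul_left (asB b) m _).symm) hκ hV m g b

/-- `π^! N = π^! O ⊗ π^* N` when `π` is flat or `N` is locally free. -/
theorem nonempty_iso_tensor [IsFinite π] [IsLocallyNoetherian Z] {N : Z.Modules} (hN : Coh.IsQCoh N)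
    {ωX : X.Modules} (hωX : Coh.IsQCoh ωX) {τ : (Coh.push π).obj ωX ⟶ N} (h : Reps π N ωX τ)
    {ωπ : X.Modules} (hωπ : Coh.IsQCoh ωπ) {τ₀ : (Coh.push π).obj ωπ ⟶ Coh.structureModule Z}
    (h₀ : Reps π (Coh.structureModule Z) ωπ τ₀) (hcase : Flat π ∨ FlatMod.IsFinLocFree N) :
    Nonempty (ωX ≅ CohB1.tensorMod ωπ ((Scheme.Modules.pullback π).obj N)) := by
  haveI : N.IsQuasicoherent := hN
  haveI : ωπ.IsQuasicoherent := hωπ
  haveI : ωX.IsQuasicoherent := hωX
  have hW : Coh.IsQCoh (CohB1.tensorMod ωπ ((Scheme.Modules.pullback π).obj N)) :=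
    Amp73.isQCoh_tensorMod hωπ (QCPull72.isQuasicoherent_pullback π N)
  haveI : (CohB1.tensorMod ωπ ((Scheme.Modules.pullback π).obj N)).IsQuasicoherent := hW
  haveI hiso : IsIso (ValVan29.projHom π ωπ N) := FMK72.isIso_projNat_app π N ωπ
  obtain ⟨κ, hκ⟩ := (h _ hW).2 (inv (ValVan29.projHom π ωπ N) ≫ (twistPairing π τ₀ N).lift)
  have hp : ValVan29.projHom π ωπ N ≫ (Coh.push π).map κ ≫ τ = (twistPairing π τ₀ N).lift := by
    rw [show (Coh.push π).map κ ≫ τ = inv (ValVan29.projHom π ωπ N) ≫ (twistPairing π τ₀ N).lift from hκ,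
      IsIso.hom_inv_id_assoc]
  haveI hA : IsIso (actB τ) := isIso_actB hN hωX h
  haveI hA₀ : IsIso (actB τ₀) := isIso_actB QC70.isQuasicoherent_unit hωπ h₀
  have hB : FlatMod.IsFinLocFree (dirO π) ∨ FlatMod.IsFinLocFree N := by
    rcases hcase with hf | hl
    · haveI := hf
      haveI := locallyOfFinitePresentation_of_isFinite π
      exact .inl (EGA73.isFinLocFree_push π)
    · exact .inr hl
  haveI hF := isIso_formPairing_lift (B := dirO π) hB
  haveI hM := isIso_mapPairing (actB τ₀) N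
  haveI : IsIso ((Coh.push π).map κ) :=
    isIso_of_comp_eq (ValVan29.projHom π ωπ N) ((Coh.push π).map κ) (actB τ) _ _ (hom_formula π τ τ₀ κ hp)
  haveI := isIso_of_push π κ
  exact ⟨(asIso κ).symm⟩

end Groth.Agent.CAlg8.Duality
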