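import Groth.Agent.CAlg8.Duality.Criterion

/-! The duality criterion on twists, and duality on projective space over a ring. -/

set_option autoImplicit false
set_option linter.style.haveILetI false
set_option backward.isDefEq.respectTransparency.types false
set_option maxHeartbeats 1000000
set_option synthInstance.maxHeartbeats 200000

universe u

open CategoryTheory CategoryTheory.Limits AlgebraicGeometry Opposite TopologicalSpace

noncomputable section

namespace Groth.Agent.CAlg8.Duality

open Groth.Agent

open scoped Classical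

/-- Bijectivity of the duality map does not depend on the representative of the test module. -/
theorem bijective_dualityMap_of_iso {A : Type u} [CommRing A] {X : Scheme.{u}} [X.Over (Spec (CommRingCat.of A))]
    {r : ℕ} {ω : X.Modules} (tr : Coh.HH X ω r →ₗ[A] A) {F G : X.Modules} (e : F ≅ G)
    (h : Function.Bijective (Canon.dualityMap A X r ω tr F)) :
    Function.Bijective (Canon.dualityMap A X r ω tr G) := by
  have hx : ∀ y, Crv77.hmap A e.hom r (Crv77.hmap A e.inv r y) = y := fun y => by
    rw [Crv77.hmap_comp, e.inv_hom_id, Crv77.hmap_id]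
  refine ⟨fun φ ψ he => (cancel_epi e.hom).1 (h.1 (LinearMap.ext fun x => ?_)), fun θ => ?_⟩
  · rw [dualityMap_apply, dualityMap_apply, ← Crv77.hmap_comp, ← Crv77.hmap_comp]
    exact LinearMap.congr_fun he _
  · obtain ⟨φ, hφ⟩ := h.2 (θ ∘ₗ Crv77.hmap A e.hom r)
    refine ⟨e.inv ≫ φ, LinearMap.ext fun y => ?_⟩
    rw [dualityMap_apply, ← Crv77.hmap_comp]
    exact (LinearMap.congr_fun hφ _).trans (congrArg θ (hx y))

/-- The criterion for closed subschemes of projective space, on twists in low degree. -/
theorem isRDualOver_of_twists {A : Type u} [CommRing A] [IsNoetherianRing A] {n r : ℕ} {X : Scheme.{u}}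
    [X.Over (Spec (CommRingCat.of A))] [QuasiCompact (X ↘ Spec (CommRingCat.of A))]
    [QuasiSeparated (X ↘ Spec (CommRingCat.of A))] (ι : X ⟶ CohB1.ProjSpace n A) [IsClosedImmersion ι] (e₀ : ℤ)
    (hvan : ∀ F : X.Modules, Coh.IsQCoh F → Subsingleton (Coh.HH X F (r + 1)))
    (ω : X.Modules) (hω : Coh.IsQCoh ω) (tr : Coh.HH X ω r →ₗ[A] A)
    (h : ∀ m : ℤ, m ≤ e₀ → Function.Bijective
      (Canon.dualityMap A X r ω tr ((Scheme.Modules.pullback ι).obj (Twist.twistProjSpace n A m)))) :
    Canon.IsRDualOver A X r ω tr := by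
  haveI : CompactSpace X := QuasiCompact.compactSpace_of_compactSpace (X ↘ Spec (CommRingCat.of A))
  haveI : QuasiSeparatedSpace X := quasiSeparatedSpace_of_quasiSeparated (X ↘ Spec (CommRingCat.of A))
  refine isRDualOver_of_generators hvan hω tr
    (fun m : ULift.{u} {m : ℤ // m ≤ e₀} => (Scheme.Modules.pullback ι).obj (Twist.twistProjSpace n A m.down.1))
    (fun m => ?_) (fun m => h _ m.down.2) (exists_epi_twists ι e₀)
  haveI : (Twist.twistProjSpace n A m.down.1).IsQuasicoherent :=
    Mero90.isQCoh_of_isInvertible (EGA73.isInvertible_twist (Amp73.span_degree_one _ (fun f hf => by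
      obtain ⟨i, -, rfl⟩ := Finset.mem_image.1 hf
      exact MvPolynomial.isHomogeneous_X A i) (ValVan29.generated (R := A) (N := n))) _)
  exact QCPull72.isQuasicoherent_pullback ι _

/-- `(O(-d-1), trace)` is a dualizing pair on `P^d` over a Noetherian ring. -/
theorem isRDualOver_projSpace (A : Type u) [CommRing A] [IsNoetherianRing A] (d : ℕ) :
    Canon.IsRDualOver A (CohB1.ProjSpace d A) d (Twist.twistProjSpace d A (-((d : ℤ) + 1))) (SerreD94.trace d A) := by
  haveI := Serre71.isProper_projSpace d A
  haveI : IsProper ((CohB1.ProjSpace d A) ↘ Spec (CommRingCat.of A)) := this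
  refine isRDualOver_of_twists (𝟙 _) (SerreD94.eω d) (fun F hF => ValVan29.subsingleton_hh_of_le (N := d)
    (CohB1.ProjSpace.toSpec d A) _ ValVan29.isAffineOpen_stdU (Pn71.iSup_stdU d A) F hF (d + 1) le_rfl) _
    (Mero90.isQCoh_of_isInvertible (EGA73.isInvertible_twist (Amp73.span_degree_one _ (fun f hf => by
      obtain ⟨i, -, rfl⟩ := Finset.mem_image.1 hf
      exact MvPolynomial.isHomogeneous_X A i) (ValVan29.generated (R := A) (N := d))) _)) _ fun m hm => ?_
  refine bijective_dualityMap_of_iso _ ((Scheme.Modules.pullbackId _).app _).symm ?_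
  refine Function.bijective_iff_existsUnique _ |>.2 fun θ => ?_
  obtain ⟨φ, hφ, huniq⟩ := SerreD94.existsUnique_hom d A hm θ
  exact ⟨φ, LinearMap.ext fun x => (hφ x).symm, fun ψ hψ => huniq ψ fun x => (LinearMap.congr_fun hψ x).symm⟩

end Groth.Agent.CAlg8.Duality
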