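import Groth.Agent.CAlg8.Duality.Transfer
import Groth.Agent.CAlg8.Duality.Criterion
import Groth.Agent.CAlg8.Duality.Finite

/-! A dualizing pair pulls back along an affine morphism of proper schemes. -/

set_option autoImplicit false
set_option linter.style.haveILetI false
set_option backward.isDefEq.respectTransparency.types false
set_option maxHeartbeats 1000000
set_option synthInstance.maxHeartbeats 200000

universe u

open CategoryTheory CategoryTheory.Limits AlgebraicGeometry Opposite TopologicalSpace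

noncomputable section

namespace Groth.Agent.CAlg8.Duality

open Groth.Agent

theorem exists_isRDualOver_of_reps {A : Type u} [CommRing A] {r : ℕ} {X Z : Scheme.{u}}
    [X.Over (Spec (CommRingCat.of A))] [Z.Over (Spec (CommRingCat.of A))]
    [IsProper (X ↘ Spec (CommRingCat.of A))] [QuasiCompact (Z ↘ Spec (CommRingCat.of A))]
    (π : X ⟶ Z) [IsAffineHom π] (hπ : π ≫ (Z ↘ Spec (CommRingCat.of A)) = X ↘ Spec (CommRingCat.of A))
    {ωZ : Z.Modules} {trZ : Coh.HH Z ωZ r →ₗ[A] A} (hZ : Canon.IsRDualOver A Z r ωZ trZ)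
    {ωX : X.Modules} (hωX : Coh.IsQCoh ωX) {τ : (Coh.push π).obj ωX ⟶ ωZ} (h : Reps π ωZ ωX τ) :
    ∃ trX : Coh.HH X ωX r →ₗ[A] A, Canon.IsRDualOver A X r ωX trX := by
  haveI : ωX.IsQuasicoherent := hωX
  obtain ⟨E, hE⟩ := Transfer.exists_transfer (A := A) (X := Z) (Z := X) π hπ r
  refine ⟨(trZ ∘ₗ Crv77.hmap A τ r) ∘ₗ (E ωX).symm.toLinearMap, hωX, fun F hF => ?_⟩
  haveI : F.IsQuasicoherent := hF
  have key : ∀ (φ : F ⟶ ωX), Canon.dualityMap A X r ωX ((trZ ∘ₗ Crv77.hmap A τ r) ∘ₗ (E ωX).symm.toLinearMap) F φ =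
      Canon.dualityMap A Z r ωZ trZ _ ((Coh.push π).map φ ≫ τ) ∘ₗ (E F).symm.toLinearMap := by
    intro φ
    refine LinearMap.ext fun x => ?_
    obtain ⟨y, rfl⟩ := (E F).surjective x
    rw [LinearMap.comp_apply, dualityMap_apply, dualityMap_apply, LinearMap.comp_apply, LinearMap.comp_apply,
      LinearEquiv.coe_coe, LinearEquiv.coe_coe, ← hE F ωX φ y, LinearEquiv.symm_apply_apply,
      LinearEquiv.symm_apply_apply, Crv77.hmap_comp]
  haveI : QuasiCompact π := inferInstance
  have hb := (hZ.2 _ (QCqs72.isQuasicoherent_pushforward (M := F) π)).comp (h F hF)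
  refine ⟨fun φ ψ e => hb.1 (LinearMap.ext fun y => ?_), fun θ => ?_⟩
  · rw [key, key] at e
    have := LinearMap.congr_fun e (E F y)
    simpa only [LinearMap.comp_apply, LinearEquiv.coe_coe, LinearEquiv.symm_apply_apply, Function.comp_apply] using this
  · obtain ⟨φ, hφ⟩ := hb.2 (θ ∘ₗ (E F).toLinearMap)
    refine ⟨φ, ?_⟩
    rw [key]
    refine LinearMap.ext fun x => ?_
    refine (LinearMap.congr_fun hφ ((E F).symm x)).trans ?_
    rw [LinearMap.comp_apply, LinearEquiv.coe_coe, LinearEquiv.apply_symm_apply]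

end Groth.Agent.CAlg8.Duality
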