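import Groth.Agent.FF71.Classes
import Groth.Agent.Var76.HHPush
import Groth.Agent.Coh69.AffinePush
import Groth.Agent.FMK72.BaseChange
import Groth.Agent.Mum71.RpushLin
import Groth.Prelude.Def_Canon
import Groth.Agent.Crv77.HH

/-! Cohomology along an affine morphism, linearly and naturally. -/

set_option autoImplicit false
set_option maxSynthPendingDepth 6
set_option linter.style.haveILetI false
set_option linter.unusedSectionVars false
set_option backward.isDefEq.respectTransparency.types false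

universe u

noncomputable section

open CategoryTheory Limits AlgebraicGeometry TopologicalSpace Opposite

namespace Groth.Agent.CAlg8.Duality.Transfer

open Groth.Agent QC70 Coh69 CechComp71 FF71 Var76

variable {A : Type u} [CommRing A] {X Z : Scheme.{u}} [X.Over (Spec (CommRingCat.of A))]
  [Z.Over (Spec (CommRingCat.of A))] [QuasiCompact (X ↘ Spec (CommRingCat.of A))]
  [IsProper (Z ↘ Spec (CommRingCat.of A))] (i : Z ⟶ X) [IsAffineHom i]
  (hi : i ≫ (X ↘ Spec (CommRingCat.of A)) = Z ↘ Spec (CommRingCat.of A))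

theorem exists_affine_cover (A : Type u) [CommRing A] (X : Scheme.{u}) [X.Over (Spec (CommRingCat.of A))]
    [QuasiCompact (X ↘ Spec (CommRingCat.of A))] : ∃ (ι : Type u) (_ : Finite ι) (U : ι → X.Opens), (⨆ j, U j = ⊤) ∧
    ∀ j, IsAffineOpen (U j) := by
  haveI : CompactSpace X :=
    QuasiCompact.compactSpace_of_compactSpace (X ↘ Spec (CommRingCat.of A))
  obtain ⟨T, hT⟩ := isCompact_univ.elim_finite_subcover
    (fun U : X.affineOpens => (U.1 : Set X)) (fun U => U.1.isOpen) (fun x _ => by
      obtain ⟨_, ⟨V, hV, rfl⟩, hxV, -⟩ :=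
        X.isBasis_affineOpens.exists_subset_of_mem_open (Set.mem_univ x) isOpen_univ
      exact Set.mem_iUnion.2 ⟨⟨V, hV⟩, hxV⟩)
  refine ⟨T, inferInstance, fun U => U.1.1, top_le_iff.mp fun x _ => ?_, fun U => U.1.2⟩
  obtain ⟨U, hU, hxU⟩ := Set.mem_iUnion₂.1 (hT (Set.mem_univ x))
  exact Opens.mem_iSup.mpr ⟨⟨U, hU⟩, hxU⟩

include hi in
theorem app_rA (V : X.Opens) (a : A) : i.app V (rA A X V a) = rA A Z (i ⁻¹ᵁ V) a := by
  simp only [rA, RingHom.comp_apply]
  rw [← hi, Scheme.Hom.comp_appTop]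
  exact ConcreteCategory.congr_hom (i.naturality (homOfLE (le_top : V ≤ ⊤)).op)
    ((X ↘ Spec (CommRingCat.of A)).appTop ((Scheme.ΓSpecIso (CommRingCat.of A)).inv a))

include hi in
theorem isAffineOpen_pre {ι : Type u} (U : ι → X.Opens) (hU : ∀ j, IsAffineOpen (U j)) :
    ∀ (n : ℕ) (j : Fin (n + 1) → ι), IsAffineOpen (cOpen (preCover i U) j) := by
  haveI : Z.IsSeparated :=
    ⟨by rw [← terminal.comp_from (Z ↘ Spec (CommRingCat.of A))]; infer_instance⟩
  intro n
  induction n with
  | zero =>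
    intro j
    rw [show cOpen (preCover i U) j = i ⁻¹ᵁ U (j 0) from le_antisymm (cOpen_le _ j 0)
      (le_cOpen _ fun l => by rw [Fin.fin_one_eq_zero l])]
    exact (hU (j 0)).preimage i
  | succ n ih =>
    intro j
    rw [← Fin.cons_self_tail j, cOpen_cons]
    exact IsAffineOpen.inf ((hU (j 0)).preimage i) (ih _)

include hi in
theorem acyclicOn_push (G : Z.Modules) [G.IsQuasicoherent] {ι : Type u} (U : ι → X.Opens)
    (hU : ∀ j, IsAffineOpen (U j)) : AcyclicOn U (Coh.toAb ((Coh.push i).obj G)) := by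
  intro q n j
  obtain ⟨e⟩ := leray i.base {V | IsAffineOpen (X := X) V} X.isBasis_affineOpens (Coh.toAb G)
    (fun V (hV : IsAffineOpen (X := X) V) m => qcoh_subsingleton_HE G (V := i ⁻¹ᵁ V) (hV.preimage i) m)
    (q + 1) (cOpen U j)
  have hV : IsAffineOpen (i ⁻¹ᵁ cOpen U j) := cOpen_preCover i U j ▸ isAffineOpen_pre i hi U hU n j
  have h : Subsingleton (HE (Coh.toAb G) (q + 1) ((Opens.map i.base).obj (cOpen U j))) :=
    qcoh_subsingleton_HE G hV q
  exact e.symm.toEquiv.subsingleton

/-- The comparison of cohomology along the affine morphism, on cocycles. -/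
theorem exists_hhPush (G : Z.Modules) [G.IsQuasicoherent] {ι : Type u} (U : ι → X.Opens)
    (hU : ∀ j, IsAffineOpen (U j)) (hcov : ⨆ j, U j = ⊤) (p : ℕ)
    (hi : i ≫ (X ↘ Spec (CommRingCat.of A)) = Z ↘ Spec (CommRingCat.of A)) :
    ∃ e : Coh.HH X ((Coh.push i).obj G) p ≃ₗ[A] Coh.HH Z G p, ∀ z,
      e (toHH U hcov ((Coh.push i).obj G) p z) =
        toHH (preCover i U) (by rw [← Scheme.Hom.preimage_iSup, hcov]; rfl) G p (pushZ i U G p z) := by
  have hV : ⨆ j, preCover i U j = ⊤ := by rw [← Scheme.Hom.preimage_iSup, hcov]; rfl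
  have hacS := acyclicOn_push i hi G U hU
  have hacX : AcyclicOn (preCover i U) (Coh.toAb G) :=
    acyclicOn_of_isAffineOpen _ _ (isAffineOpen_pre i hi U hU)
  let θ : MZ U ((Coh.push i).obj G) p →+ Coh.HH Z G p :=
    (toHH (preCover i U) hV G p).comp (pushZ i U G p).toAddMonoidHom
  have hsurj : Function.Surjective θ := (toHH_surjective hV hacX p).comp (pushZ i U G p).surjective
  have hker : θ.ker = (toHH U hcov ((Coh.push i).obj G) p).ker := by
    ext z
    rw [AddMonoidHom.mem_ker, AddMonoidHom.mem_ker]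
    show toHH (preCover i U) hV G p (pushZ i U G p z) = 0 ↔ _
    cases p with
    | zero =>
      refine ((map_eq_zero_iff _ (toHH_zero_bijective _ hV G).1).trans ?_).trans
        (map_eq_zero_iff _ (toHH_zero_bijective _ hcov _).1).symm
      exact (pushZ i U G 0).map_eq_zero_iff
    | succ q =>
      rw [toHH_eq_zero_iff hV hacX, toHH_eq_zero_iff hcov hacS]
      constructor
      · rintro ⟨r, hr⟩
        refine ⟨(pushCoch i U G q).symm r, (pushCoch i U G (q + 1)).injective ?_⟩
        exact (pushCoch_cd i U G q _).trans ((congrArg _ ((pushCoch i U G q).apply_symm_apply r)).trans hr)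
      · rintro ⟨r, hr⟩
        exact ⟨pushCoch i U G q r, (pushCoch_cd i U G q r).symm.trans (congrArg _ hr)⟩
  let e₁ := QuotientAddGroup.quotientKerEquivOfSurjective _ (toHH_surjective hcov hacS p)
  let e₂ := QuotientAddGroup.quotientKerEquivOfSurjective _ hsurj
  let e := e₁.symm.trans ((QuotientAddGroup.quotientAddEquivOfEq hker.symm).trans e₂)
  have he : ∀ z, e (toHH U hcov _ p z) = θ z := fun z => by
    have : e₁.symm (toHH U hcov _ p z) = QuotientAddGroup.mk z := e₁.symm_apply_apply (QuotientAddGroup.mk z)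
    show e₂ (QuotientAddGroup.quotientAddEquivOfEq hker.symm (e₁.symm _)) = _
    rw [this]
    rfl
  exact ⟨{ e with
    map_smul' := fun a x => by
      obtain ⟨z, rfl⟩ := toHH_surjective hcov hacS p x
      change e (a • _) = a • e _
      rw [← toHH_smulZ, he, he]
      show toHH _ hV G p (pushZ i U G p (smulZ A U _ p a z)) = a • toHH _ hV G p (pushZ i U G p z)
      rw [← toHH_smulZ]
      exact congrArg _ (Subtype.ext (pushCoch_smul i hi U G p a z.1)) }, he⟩

theorem pushZ_zmap {G G' : Z.Modules} (φ : G ⟶ G') {ι : Type u} (U : ι → X.Opens) (p : ℕ)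
    (z : MZ U ((Coh.push i).obj G) p) :
    pushZ i U G' p (zmap ((SheafOfModules.toSheaf _).map ((Coh.push i).map φ)) p z) =
      zmap ((SheafOfModules.toSheaf _).map φ) p (pushZ i U G p z) :=
  Subtype.ext (funext fun j => (QC70.app_res φ (cOpen_preCover i U j).le _).symm)

include hi in
/-- Cohomology of direct images along an affine morphism, linearly and naturally. -/
theorem exists_transfer (p : ℕ) :
    ∃ E : ∀ (G : Z.Modules) [G.IsQuasicoherent], Coh.HH X ((Coh.push i).obj G) p ≃ₗ[A] Coh.HH Z G p,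
      ∀ (G G' : Z.Modules) [G.IsQuasicoherent] [G'.IsQuasicoherent] (φ : G ⟶ G')
        (x : Coh.HH X ((Coh.push i).obj G) p),
        E G' (Crv77.hmap A ((Coh.push i).map φ) p x) = Crv77.hmap A φ p (E G x) := by
  obtain ⟨ι, _, U, hcov, hU⟩ := exists_affine_cover A X
  have hV : ⨆ j, preCover i U j = ⊤ := by rw [← Scheme.Hom.preimage_iSup, hcov]; rfl
  choose E hE using fun (G : Z.Modules) (hG : G.IsQuasicoherent) =>
    haveI := hG
    exists_hhPush i G U hU hcov p hi
  refine ⟨fun G _ => E G inferInstance, fun G G' _ _ φ x => ?_⟩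
  obtain ⟨z, rfl⟩ := toHH_surjective hcov (acyclicOn_push i hi G U hU) p x
  rw [show Crv77.hmap A ((Coh.push i).map φ) p (toHH U hcov _ p z) = _ from
    (toHH_natural U hcov _ p z).symm, hE, hE]
  refine (congrArg _ (pushZ_zmap i φ U p z)).trans ?_
  exact toHH_natural (preCover i U) hV _ p _

end Groth.Agent.CAlg8.Duality.Transfer
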